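import Cfsg.Agent.H577.GLB.Real
import Cfsg.Agent.H623.GLn.Real
import Cfsg.Agent.H421.GLn.Pointwise

/-!
# S4536, R5: twists (helper809)

Multiplication by the linear character with label `a` corresponds to the translation of labels
(`Om_twist`).
-/

set_option autoImplicit false

open Polynomial Cfsg

namespace Cfsg.Agent.H809.GLB

open Cfsg.Agent.H614.GLn Cfsg.Agent.H577.GLB.Std Cfsg.Agent.H577.GLB.Real
open Cfsg.Agent.H139.Cusp (kap_formula kap_eq_zero_or exists_finrank_ker aeval_pow_of_charpoly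
  roots_minpoly pow_eq_self_iff integral_of_finite kap)

universe u w

variable {F : Type u} [Field F] {K : Type w} [Field K] [Algebra F K] {θ : K →*₀ ℂ}

/-! ### the norm of a monic polynomial -/

/-- the product of the roots -/
noncomputable def nrmP (p : F[X]) : F := (-1) ^ p.natDegree * p.coeff 0

theorem nrmP_one : nrmP (1 : F[X]) = 1 := by
  rw [nrmP, natDegree_one, pow_zero, one_mul, coeff_one_zero]

theorem nrmP_mul {p q : F[X]} (hp : p.Monic) (hq : q.Monic) : nrmP (p * q) = nrmP p * nrmP q := by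
  rw [nrmP, nrmP, nrmP, hp.natDegree_mul hq, mul_coeff_zero, pow_add]
  ring

theorem nrmP_pow {p : F[X]} (hp : p.Monic) (m : ℕ) : nrmP (p ^ m) = nrmP p ^ m := by
  induction m with
  | zero => rw [pow_zero, pow_zero, nrmP_one]
  | succ m ih => rw [pow_succ, pow_succ, nrmP_mul (hp.pow m) hp, ih]

theorem nrmP_minpoly [Finite F] [Finite K] (l : K) :
    algebraMap F K (nrmP (minpoly F l)) = ∏ i ∈ Finset.range (minpoly F l).natDegree, l ^ (Nat.card F ^ i) := by
  have hs : ((minpoly F l).map (algebraMap F K)).Splits := by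
    rw [splits_iff_card_roots, roots_minpoly, Multiset.card_map, Multiset.card_range,
      natDegree_map]
  have hmon : ((minpoly F l).map (algebraMap F K)).Monic := (minpoly.monic (integral_of_finite l)).map _
  have h := hs.coeff_zero_eq_prod_roots_of_monic hmon
  rw [coeff_map, natDegree_map, roots_minpoly] at h
  rw [nrmP, map_mul, h, map_pow, map_neg, map_one, ← mul_assoc, ← mul_pow, neg_one_mul, neg_neg, one_pow, one_mul]
  rfl

/-- the norm from the field with `q ^ (d * m)` elements -/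
theorem pow_geom [Finite F] [Finite K] (l : K) (m : ℕ) :
    l ^ (∑ i ∈ Finset.range ((minpoly F l).natDegree * m), Nat.card F ^ i) =
      algebraMap F K (nrmP ((minpoly F l) ^ m)) := by
  rw [nrmP_pow (minpoly.monic (integral_of_finite l)), map_pow, nrmP_minpoly]
  set d := (minpoly F l).natDegree with hd
  induction m with
  | zero => rw [mul_zero, Finset.range_zero, Finset.sum_empty, pow_zero, pow_zero]
  | succ m ih =>
    rw [Nat.mul_succ, Finset.sum_range_add, pow_add, ih, pow_succ]
    congr 1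
    rw [← Finset.prod_pow_eq_pow_sum]
    refine Finset.prod_congr rfl fun i _ => ?_
    rw [pow_add, pow_mul]
    congr 1
    exact (pow_eq_self_iff (F := F) l (d * m)).2 (Dvd.intro m rfl)

/-! ### the exponents -/

theorem torZ_of_one {Q : ℤ} {M : ℕ} {a : ZMod M} (ha : TorZ Q M 1 a) (k : ℕ) : TorZ Q M k a := by
  unfold TorZ at *
  rw [pow_one] at ha
  obtain ⟨c, hc⟩ := sub_one_dvd_pow_sub_one (Q : ZMod M) k
  rw [hc, mul_right_comm, ha, zero_mul]

theorem torZ_add {Q : ℤ} {M k : ℕ} {a b : ZMod M} (ha : TorZ Q M k a) (hb : TorZ Q M k b) :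
    TorZ Q M k (a + b) := by
  unfold TorZ at *
  rw [mul_add, ha, hb, add_zero]

theorem expo_add {q M k : ℕ} [NeZero M] (hq : 2 ≤ q) {c a : ZMod M} (hc : TorZ (q : ℤ) M k c)
    (ha : TorZ (q : ℤ) M 1 a) :
    expo q M k (c + a) ≡ expo q M k c + expo q M 1 a * ∑ i ∈ Finset.range k, q ^ i [MOD (q ^ k - 1)] := by
  have hM : M ≠ 0 := NeZero.ne M
  have hca : TorZ (q : ℤ) M k (c + a) := torZ_add hc (torZ_of_one ha k)
  have h1 := H623.GLn.expo_mul (by omega) hc
  have h2 := H623.GLn.expo_mul (by omega) hca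
  have h3 := H623.GLn.expo_mul (by omega) ha
  have hG : (∑ i ∈ Finset.range k, q ^ i) * (q - 1) = q ^ k - 1 := by
    have := Nat.geomSum_eq hq k
    rw [this]
    exact Nat.div_mul_cancel (Nat.sub_one_dvd_pow_sub_one q k)
  rw [← Nat.ModEq.mul_right_cancel_iff' (c := M) hM, h2, add_mul, h1]
  have h4 : expo q M 1 a * (∑ i ∈ Finset.range k, q ^ i) * M = a.val * (q ^ k - 1) := by
    rw [mul_right_comm, h3, pow_one, mul_assoc, mul_comm (q - 1), hG]
  rw [h4, ← add_mul, mul_comm (q ^ k - 1) M]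
  refine Nat.ModEq.mul_right' _ ?_
  rw [← ZMod.natCast_eq_natCast_iff]
  push_cast
  rw [ZMod.natCast_zmod_val, ZMod.natCast_zmod_val, ZMod.natCast_zmod_val]

/-! ### the multiplicative function -/

/-- the linear character as a function of the characteristic polynomial -/
noncomputable def linB (F : Type u) [Field F] {K : Type w} [Field K] [Algebra F K] (θ : K →*₀ ℂ) (e : ℕ)
    (p : F[X]) : ℂ := θ (algebraMap F K (nrmP p)) ^ e

theorem linB_one (e : ℕ) : linB F θ e 1 = 1 := by
  rw [linB, nrmP_one, map_one, map_one, one_pow]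

theorem linB_mul (e : ℕ) (p q : F[X]) (hp : p.Monic) (hq : q.Monic) :
    linB F θ e (p * q) = linB F θ e p * linB F θ e q := by
  rw [linB, nrmP_mul hp hq, map_mul, map_mul, mul_pow]
  rfl

open Classical in
theorem lba_twist [Finite F] [Finite K] {M : ℕ} [NeZero M] {f : F[X]} (hf : f.Monic) (hirr : Irreducible f)
    {m k : ℕ} (hk : k = f.natDegree * m) {c a : ZMod M} (hc : TorZ (Nat.card F) M k c)
    (ha : TorZ (Nat.card F) M 1 a) :
    lba θ (expo (Nat.card F) M k (c + a)) f =
      linB F θ (expo (Nat.card F) M 1 a) (f ^ m) * lba θ (expo (Nat.card F) M k c) f := by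
  have hq : 2 ≤ Nat.card F := Finite.one_lt_card
  rw [lba, lba, ← Multiset.sum_map_mul_left]
  refine congrArg Multiset.sum (Multiset.map_congr rfl fun x hx => ?_)
  by_cases hx0 : x = 0
  · rw [if_pos hx0, if_pos hx0, mul_zero]
  rw [if_neg hx0, if_neg hx0]
  have hfx : f = minpoly F x := by
    refine minpoly.eq_of_irreducible_of_monic hirr ?_ hf
    have h1 := (mem_roots'.1 hx).2
    rwa [IsRoot.def, eval_map_algebraMap] at h1
  have hxk : x ^ (Nat.card F ^ k) = x := (pow_eq_self_iff (F := F) x k).2 (hfx ▸ (hk ▸ Dvd.intro m rfl))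
  have hq1 : 1 ≤ Nat.card F ^ k := Nat.one_le_pow _ _ Nat.card_pos
  have h1 : θ x ^ (Nat.card F ^ k - 1) = 1 := by
    have h3 : x * x ^ (Nat.card F ^ k - 1) = x * 1 := by
      rw [← pow_succ', Nat.sub_add_cancel hq1, hxk, mul_one]
    rw [← map_pow, mul_left_cancel₀ hx0 h3, map_one]
  have key : ∀ y : ℕ, θ x ^ y = θ x ^ (y % (Nat.card F ^ k - 1)) := by
    intro y
    conv_lhs => rw [← Nat.div_add_mod y (Nat.card F ^ k - 1), pow_add, pow_mul, h1, one_pow, one_mul]
  have hG : x ^ (∑ i ∈ Finset.range k, Nat.card F ^ i) = algebraMap F K (nrmP (f ^ m)) := by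
    rw [hk, hfx]
    exact pow_geom x m
  rw [key, expo_add hq hc ha, ← key, linB, ← hG, map_pow, ← pow_mul, ← pow_add]
  congr 1
  ring

/-- **multiplication by the linear character translates the labels** -/
theorem pw_Rc {N M : ℕ} [NeZero M] (hctx : Ctx F θ N M) {k : ℕ} (hk : 0 < k) {c a : ZMod M}
    (hc : TorZ (Nat.card F) M k c) (ha : TorZ (Nat.card F) M 1 a) :
    pw (linB F θ (expo (Nat.card F) M 1 a)) (Rc θ M k c) = Rc θ M k (c + a) := by
  have := hctx.finF
  have := hctx.finK
  refine Fam.ext' fun V _ _ _ T => ?_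
  rw [pw_fn, Rc, Rc, Rf, Rf, comp_fn, comp_fn]
  split_ifs with hV
  swap
  · rw [mul_zero]
  rw [kapF_fn, kapF_fn]
  have hnt : Nontrivial V := Module.nontrivial_of_finrank_pos (R := F) (by omega)
  have main : ∀ (f : F[X]) (m : ℕ), f.Monic → Irreducible f → 0 < m → T.charpoly = f ^ m →
      linB F θ (expo (Nat.card F) M 1 a) T.charpoly * kap (lba θ (expo (Nat.card F) M k c)) T ⊤ =
        kap (lba θ (expo (Nat.card F) M k (c + a))) T ⊤ := by
    intro f m hf hirr hm h
    have hdeg : k = f.natDegree * m := by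
      rw [← hV, ← LinearMap.charpoly_natDegree T, h, hf.natDegree_pow, mul_comm]
    obtain ⟨j, hj⟩ := exists_finrank_ker hirr (g := T) (by rw [h]; exact dvd_pow_self f hm.ne')
    rw [kap_formula _ (lba_add θ _) hf hirr (aeval_pow_of_charpoly h) hj,
      kap_formula _ (lba_add θ _) hf hirr (aeval_pow_of_charpoly h) hj, lba_twist hf hirr hdeg hc ha, h, mul_assoc]
  rcases kap_eq_zero_or _ (lba_add θ (expo (Nat.card F) M k c)) T with ⟨f, m, hf, hirr, hm, h⟩ | h
  · exact main f m hf hirr hm h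
  rcases kap_eq_zero_or _ (lba_add θ (expo (Nat.card F) M k (c + a))) T with ⟨f, m, hf, hirr, hm, h'⟩ | h'
  · exact main f m hf hirr hm h'
  rw [h, h', mul_zero]

/-- pointwise multiplication as a ring homomorphism -/
noncomputable def pwHom (e : ℕ) : Fam F →ₐ[ℂ] Fam F where
  toFun := pw (linB F θ e)
  map_one' := by
    refine Fam.ext' fun V _ _ _ T => ?_
    rw [pw_fn]
    by_cases h : Subsingleton V
    · rw [Fam.one_fn]
      have : T.charpoly = 1 := by
        have h1 := LinearMap.charpoly_monic T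
        rw [← h1.natDegree_eq_zero, LinearMap.charpoly_natDegree]
        exact Module.finrank_zero_of_subsingleton
      rw [this, linB_one, mul_one]
    · rw [Fam.one_fn' V h, mul_zero]
  map_mul' := H421.GLn.pw_mul (linB_mul e)
  map_zero' := by
    refine Fam.ext' fun V _ _ _ T => ?_
    rw [pw_fn, Fam.zero_fn, mul_zero]
  map_add' f g := by
    refine Fam.ext' fun V _ _ _ T => ?_
    rw [pw_fn, Fam.add_fn, Fam.add_fn, pw_fn, pw_fn, mul_add]
  commutes' r := by
    rw [Algebra.algebraMap_eq_smul_one]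
    refine Fam.ext' fun V _ _ _ T => ?_
    rw [pw_fn, Fam.smul_fn]
    by_cases h : Subsingleton V
    · rw [Fam.one_fn]
      have : T.charpoly = 1 := by
        have h1 := LinearMap.charpoly_monic T
        rw [← h1.natDegree_eq_zero, LinearMap.charpoly_natDegree]
        exact Module.finrank_zero_of_subsingleton
      rw [this, linB_one, one_mul]
    · rw [Fam.one_fn' V h, mul_zero, mul_zero]

theorem pwHom_apply (e : ℕ) (f : Fam F) : pwHom (θ := θ) e f = pw (linB F θ e) f := rfl

theorem piA_twist {N M : ℕ} [NeZero M] (hctx : Ctx F θ N M) {n : ℕ} (hn : n ≤ N) (a : ZMod M)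
    (ha : TorZ (Nat.card F) M 1 a) {x : RS M} (hx : x ∈ Hom (Nat.card F) M n) :
    piA (F := F) θ M (twist (Nat.card F) M a x) = pw (linB F θ (expo (Nat.card F) M 1 a)) (piA (F := F) θ M x) := by
  have h : ((piA (F := F) θ M).comp (twist (Nat.card F) M a)).toRingHom x =
      ((pwHom (θ := θ) (expo (Nat.card F) M 1 a)).comp (piA (F := F) θ M)).toRingHom x := by
    refine MvPolynomial.hom_congr_vars ?_ (fun v hv _ => ?_) rfl
    · ext r
      simp
    · obtain ⟨m, hm, hvm⟩ := (MvPolynomial.mem_vars v).1 hv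
      have hg := H623.GLn.Hom.genVar hx hm hvm
      have hw := H623.GLn.Hom.weight hx hm
      have hvN : v.1 ≤ N := by
        have h3 : v.1 ≤ Finsupp.weight (fun v : Var M => v.1) m :=
          Finsupp.le_weight_of_ne_zero' _ (Finsupp.mem_support_iff.1 hvm)
        omega
      show piA (F := F) θ M (twist (Nat.card F) M a (MvPolynomial.X v)) =
        pw (linB F θ (expo (Nat.card F) M 1 a)) (piA (F := F) θ M (MvPolynomial.X v))
      have h1 : twist (Nat.card F) M a (MvPolynomial.X v) = rv (Nat.card F) M v.1 (v.2 + a) :=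
        MvPolynomial.aeval_X _ _
      have h2 : piA (F := F) θ M (MvPolynomial.X v) = Rc θ M v.1 v.2 := MvPolynomial.aeval_X _ _
      rw [h1, h2, pw_Rc hctx hg.1 hg.2.1 ha]
      exact H623.GLn.piA_rv hctx hg.1 hvN (torZ_add hg.2.1 (torZ_of_one ha _))
  exact h

end Cfsg.Agent.H809.GLB

namespace Cfsg.Agent.H577.GLB.Real

open Cfsg.Agent.H614.GLn Cfsg.Agent.H577.GLB.Std

universe u w

/-- R5: twists -/
theorem Om_twist' {F : Type u} [Field F] {K : Type w} [Field K] [Algebra F K] {θ : K →*₀ ℂ} {N M : ℕ} [NeZero M]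
    (hctx : Ctx F θ N M) {n : ℕ} (hn : n ≤ N) (a : ZMod M) (ha : TorZ (Nat.card F) M 1 a) {x : RS M}
    (hx : x ∈ Hom (Nat.card F) M n) (g : GL (Fin n) F) :
    Om (F := F) θ M n (twist (Nat.card F) M a x) g =
      θ (algebraMap F K (Matrix.GeneralLinearGroup.det g : F)) ^ expo (Nat.card F) M 1 a * Om (F := F) θ M n x g := by
  have := hctx.finF
  rw [Om, Om, H809.GLB.piA_twist hctx hn a ha hx, pw_fn, Matrix.charpoly_toLin']
  congr 1
  rw [H809.GLB.linB, H809.GLB.nrmP, Matrix.charpoly_natDegree_eq_dim]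
  congr 3
  exact (Matrix.det_eq_sign_charpoly_coeff _).symm

end Cfsg.Agent.H577.GLB.Real
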