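import Cfsg.Agent.H577.GLB.Lab
import Cfsg.Agent.H809.GLB.Twist

/-!
# S4536, R5: twists, with the shared definition `lin` (helper809)
-/

set_option autoImplicit false

open Polynomial Cfsg

namespace Cfsg.Agent.H577.GLB.Real

open Cfsg.Agent.H614.GLn Cfsg.Agent.H577.GLB.Std

universe u w

variable {F : Type u} [Field F] {K : Type w} [Field K] [Algebra F K] {θ : K →*₀ ℂ} {N M : ℕ} [NeZero M]

/-- R5: twists -/
theorem Om_twist (hctx : Ctx F θ N M) {n : ℕ} (hn : n ≤ N) (a : ZMod M) (ha : TorZ (Nat.card F) M 1 a) {x : RS M}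
    (hx : x ∈ Hom (Nat.card F) M n) (g : GL (Fin n) F) :
    Om (F := F) θ M n (twist (Nat.card F) M a x) g =
      lin F θ M a (Matrix.GeneralLinearGroup.det g) * Om (F := F) θ M n x g :=
  Om_twist' hctx hn a ha hx g

end Cfsg.Agent.H577.GLB.Real
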