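import Cfsg.Agent.H577.GLB.Fam
import Cfsg.Agent.H661.Hom
import Cfsg.Agent.H583.SecRank

/-!
# S4536, TRN: from the kernel of the determinant to `SL_n(F)` (helper809, task 5900)
-/

set_option autoImplicit false

open Cfsg
open scoped MatrixGroups

namespace Cfsg.Agent.H809.GLB

open Cfsg.Agent.H661.Hom

universe u v

/-- transport of the rank of a set of characters -/
theorem blockRank_pullSet_le {p : ℕ} {K : Type u} {H : Type v} [Group K] [Group H] [Finite K] [Finite H] (e : K ≃* H)
    (b : Set (IrrCharacter H)) : blockRank p b ≤ blockRank p (pullSet e b) := by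
  classical
  unfold blockRank
  let L : (H → ℂ) →ₗ[ℂ] (K → ℂ) := LinearMap.funLeft ℂ ℂ e
  have hL : Function.Injective L := LinearMap.funLeft_injective_of_surjective ℂ ℂ e e.surjective
  have h1 : (Submodule.span ℂ ((fun χ : IrrCharacter H => pRegularPart p (χ : H → ℂ)) '' b)).map L ≤
      Submodule.span ℂ ((fun χ : IrrCharacter K => pRegularPart p (χ : K → ℂ)) '' pullSet e b) := by
    rw [Submodule.map_span_le]
    rintro _ ⟨χ, hχ, rfl⟩
    refine Submodule.subset_span ⟨pull e χ, pull_mem_pullSet.2 hχ, ?_⟩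
    funext y
    show pRegularPart p (pull e χ : K → ℂ) y = pRegularPart p (χ : H → ℂ) (e y)
    unfold pRegularPart IsPRegular
    rw [pull_apply, MulEquiv.orderOf_eq]
  have h2 := LinearEquiv.finrank_eq (Submodule.equivMapOfInjective L hL
    (Submodule.span ℂ ((fun χ : IrrCharacter H => pRegularPart p (χ : H → ℂ)) '' b)))
  rw [h2]
  exact Submodule.finrank_mono h1

theorem blockRank_pullSet {p : ℕ} {K : Type u} {H : Type v} [Group K] [Group H] [Finite K] [Finite H] (e : K ≃* H)
    (b : Set (IrrCharacter H)) : blockRank p (pullSet e b) = blockRank p b := by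
  refine le_antisymm ?_ (blockRank_pullSet_le e b)
  have h1 := blockRank_pullSet_le (p := p) e.symm (pullSet e b)
  rwa [pullSet_symm_pullSet] at h1

/-- transport of the statement `l(B) ≤ p ^ s` -/
theorem rank_transport {p : ℕ} {𝔐 : Ideal AlgInt} {K : Type u} {H : Type v} [Group K] [Group H] [Finite K] [Finite H]
    (e : K ≃* H)
    (h : ∀ (B : Set (IrrCharacter H)), IsPBlock 𝔐 B → ∀ D : Subgroup H, IsDefectGroup p 𝔐 B D →
      ∀ s : ℕ, SectionalPRankLE p s D → blockRank p B ≤ p ^ s)
    (B : Set (IrrCharacter K)) (hB : IsPBlock 𝔐 B) (D : Subgroup K) (hD : IsDefectGroup p 𝔐 B D) (s : ℕ)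
    (hs : SectionalPRankLE p s D) : blockRank p B ≤ p ^ s := by
  rw [← blockRank_pullSet e.symm B]
  refine h _ (isPBlock_pullSet e.symm hB) (D.map e.toMonoidHom) ?_ s
    (H583.SecRank.sectional_of_mulEquiv hs (D.equivMapOfInjective e.toMonoidHom e.injective))
  rw [← isDefectGroup_pullSet e, pullSet_pullSet_symm]
  exact hD

end Cfsg.Agent.H809.GLB

namespace Cfsg.Agent.H577.GLB.Real

universe u

/-- TRN -/
theorem sl_of_slS {F : Type u} [Field F] [Finite F] {p : ℕ} {𝔐 : Ideal AlgInt} {n : ℕ} [Fact p.Prime]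
    (h : ∀ (B : Set (IrrCharacter (slS F n))), IsPBlock 𝔐 B → ∀ D : Subgroup (slS F n), IsDefectGroup p 𝔐 B D →
      ∀ s : ℕ, SectionalPRankLE p s D → blockRank p B ≤ p ^ s)
    (B : Set (IrrCharacter (Matrix.SpecialLinearGroup (Fin n) F))) (hB : IsPBlock 𝔐 B)
    (D : Subgroup (Matrix.SpecialLinearGroup (Fin n) F)) (hD : IsDefectGroup p 𝔐 B D) (s : ℕ)
    (hs : SectionalPRankLE p s D) : blockRank p B ≤ p ^ s := by
  have hr : (Matrix.SpecialLinearGroup.toGL : Matrix.SpecialLinearGroup (Fin n) F →* GL (Fin n) F).range = slS F n := by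
    ext g
    rw [slS, MonoidHom.mem_ker]
    constructor
    · rintro ⟨s, rfl⟩
      exact Units.ext s.2
    · intro hg
      exact ⟨⟨g, congrArg Units.val hg⟩, Units.ext rfl⟩
  let e : Matrix.SpecialLinearGroup (Fin n) F ≃* slS F n :=
    (MonoidHom.ofInjective Matrix.SpecialLinearGroup.toGL_injective).trans (MulEquiv.subgroupCongr hr)
  exact H809.GLB.rank_transport e h B hB D hD s hs

end Cfsg.Agent.H577.GLB.Real
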